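import Mathlib
import Cfsg.Agent.H9.RankOne2
import Cfsg.Agent.S1128
import Cfsg.Agent.S0033

/-!
Rank-one set-up: `Q` is nilpotent (via Thompson's theorem), involutions of `G_a` are central in `Q`.
-/

set_option autoImplicit false
set_option linter.unusedSectionVars false
open scoped Pointwise

namespace Cfsg.Agent.Lib.Helper5.RankOneB

open MulAction Cfsg.Agent.H9.RankOne

variable {G Ω : Type*} [Group G] [Finite G] [MulAction G Ω] {a : Ω} {t : G} {Q : Subgroup G}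

/-- commuting involutions have the same fixed point -/
lemma fixed_eq_of_commute (hS : Cfsg.IsRankOneSetup G Ω a t Q) {x y : G} (hx1 : x ≠ 1)
    (hxx : x * x = 1) (_hy1 : y ≠ 1) (_hyy : y * y = 1) (hxy : x * y = y * x) {c : Ω}
    (hc : x • c = c) : y • c = c := by
  obtain ⟨c0, _, huniq⟩ := invol_unique_fixed hS hx1 hxx
  have h1 : x • (y • c) = y • c := by
    rw [smul_smul, hxy, mul_smul, hc]
  rw [huniq _ h1, ← huniq _ hc]

/-- with two distinct commuting involutions in `G`, the stabiliser `G_a` contains two distinct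
involutions. -/
lemma exists_two_invol (hS : Cfsg.IsRankOneSetup G Ω a t Q)
    (h2 : ∃ x y : G, x ≠ 1 ∧ y ≠ 1 ∧ x ≠ y ∧ x * x = 1 ∧ y * y = 1 ∧ x * y = y * x) :
    ∃ s s' : G, s ∈ Cfsg.involutionsIn (stabilizer G a : Set G) ∧
      s' ∈ Cfsg.involutionsIn (stabilizer G a : Set G) ∧ s ≠ s' := by
  obtain ⟨x, y, hx1, hy1, hxy, hxx, hyy, hcomm⟩ := h2
  obtain ⟨c, hc, _⟩ := invol_unique_fixed hS hx1 hxx
  have hyc := fixed_eq_of_commute hS hx1 hxx hy1 hyy hcomm hc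
  have := isPretransitive hS
  obtain ⟨g, hg⟩ := MulAction.exists_smul_eq G c a
  refine ⟨g * x * g⁻¹, g * y * g⁻¹, ⟨?_, ?_, ?_⟩, ⟨?_, ?_, ?_⟩, ?_⟩
  · show (g * x * g⁻¹) • a = a
    rw [← hg, mul_smul, mul_smul, inv_smul_smul, hc]
  · intro h
    apply hx1
    have : x = g⁻¹ * (g * x * g⁻¹) * g := by group
    rw [this, h]; group
  · calc g * x * g⁻¹ * (g * x * g⁻¹) = g * (x * x) * g⁻¹ := by group
      _ = 1 := by rw [hxx]; group
  · show (g * y * g⁻¹) • a = a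
    rw [← hg, mul_smul, mul_smul, inv_smul_smul, hyc]
  · intro h
    apply hy1
    have : y = g⁻¹ * (g * y * g⁻¹) * g := by group
    rw [this, h]; group
  · calc g * y * g⁻¹ * (g * y * g⁻¹) = g * (y * y) * g⁻¹ := by group
      _ = 1 := by rw [hyy]; group
  · intro h
    apply hxy
    have h1 : x = g⁻¹ * (g * x * g⁻¹) * g := by group
    have h2 : y = g⁻¹ * (g * y * g⁻¹) * g := by group
    rw [h1, h, ← h2]

/-- a non-identity element inverted by `t` exists. -/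
lemma exists_K_ne_one (hS : Cfsg.IsRankOneSetup G Ω a t Q)
    (h2 : ∃ x y : G, x ≠ 1 ∧ y ≠ 1 ∧ x ≠ y ∧ x * x = 1 ∧ y * y = 1 ∧ x * y = y * x) :
    ∃ k ∈ KK G a t, k ≠ 1 := by
  obtain ⟨s, s', hs, hs', hne⟩ := exists_two_invol hS h2
  obtain ⟨k, hk, hks⟩ := exists_K_conj hS hs hs'
  refine ⟨k, hk, ?_⟩
  rintro rfl
  apply hne
  rw [← hks]; group

/-- a non-identity element of prime order inverted by `t` exists. -/
lemma exists_K_prime (hS : Cfsg.IsRankOneSetup G Ω a t Q)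
    (h2 : ∃ x y : G, x ≠ 1 ∧ y ≠ 1 ∧ x ≠ y ∧ x * x = 1 ∧ y * y = 1 ∧ x * y = y * x) :
    ∃ k ∈ KK G a t, (orderOf k).Prime := by
  obtain ⟨k, hk, hk1⟩ := exists_K_ne_one hS h2
  have hne : orderOf k ≠ 1 := fun h => hk1 (orderOf_eq_one_iff.mp h)
  obtain ⟨p, hp, hpd⟩ := Nat.exists_prime_and_dvd hne
  refine ⟨k ^ (orderOf k / p), K_pow hk _, ?_⟩
  rw [orderOf_pow_orderOf_div (orderOf_pos k).ne' hpd]
  exact hp

/-- conjugation by an element of `D` as an automorphism of `Q`. -/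
noncomputable def conjQ (hS : Cfsg.IsRankOneSetup G Ω a t Q) {d : G} (hd : d ∈ DD G a t) : Q ≃* Q where
  toFun q := ⟨d * q * d⁻¹, hS.conj_mem d hd.1 q q.2⟩
  invFun q := ⟨d⁻¹ * q * d, by
    have := hS.conj_mem d⁻¹ ((stabilizer G a).inv_mem hd.1) q q.2
    rwa [inv_inv] at this⟩
  left_inv q := by apply Subtype.ext; show d⁻¹ * (d * q * d⁻¹) * d = q; group
  right_inv q := by apply Subtype.ext; show d * (d⁻¹ * q * d) * d⁻¹ = q; group
  map_mul' q q' := by apply Subtype.ext; show d * (q * q') * d⁻¹ = d * q * d⁻¹ * (d * q' * d⁻¹); group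

lemma conjQ_apply (hS : Cfsg.IsRankOneSetup G Ω a t Q) {d : G} (hd : d ∈ DD G a t) (q : Q) :
    ((conjQ hS hd q : Q) : G) = d * q * d⁻¹ := rfl

lemma conjQ_pow (hS : Cfsg.IsRankOneSetup G Ω a t Q) {d : G} (hd : d ∈ DD G a t) (n : ℕ) (q : Q) :
    (((conjQ hS hd) ^ n) q : G) = d ^ n * q * (d ^ n)⁻¹ := by
  induction n generalizing q with
  | zero => simp
  | succ n ih =>
    rw [pow_succ, MulAut.mul_apply, ih, conjQ_apply, pow_succ]
    group

/-- `Q` is nilpotent. -/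
theorem Q_nilpotent (hS : Cfsg.IsRankOneSetup G Ω a t Q)
    (h2 : ∃ x y : G, x ≠ 1 ∧ y ≠ 1 ∧ x ≠ y ∧ x * x = 1 ∧ y * y = 1 ∧ x * y = y * x) :
    Group.IsNilpotent Q := by
  obtain ⟨k, hk, hp⟩ := exists_K_prime hS h2
  have hk1 : k ≠ 1 := by
    intro h
    rw [h, orderOf_one] at hp
    exact Nat.not_prime_one hp
  have hfpf : MonoidHom.FixedPointFree ((conjQ hS hk.1 : Q ≃* Q) : Q →* Q) := by
    intro q hq
    have h1 : k * (q : G) * k⁻¹ = q := congrArg Subtype.val hq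
    have h3 : k * (q : G) = q * k := by
      calc k * (q : G) = k * q * k⁻¹ * k := by group
        _ = q * k := by rw [h1]
    exact Subtype.ext (Cfsg.Agent.S1128.fpf hS k hk hk1 q.2 h3)
  have hpow : (conjQ hS hk.1) ^ orderOf k = 1 := by
    ext q
    rw [conjQ_pow, pow_orderOf_eq_one]
    simp
  have hne : conjQ hS hk.1 ≠ 1 := by
    intro h
    obtain ⟨s, hsQ, hs1, -⟩ := exists_invol hS
    apply hs1
    have := hfpf ⟨s, hsQ⟩ (by
      show (conjQ hS hk.1) ⟨s, hsQ⟩ = ⟨s, hsQ⟩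
      rw [h]; rfl)
    exact congrArg Subtype.val this
  have hord : orderOf (conjQ hS hk.1) = orderOf k := by
    have hdvd : orderOf (conjQ hS hk.1) ∣ orderOf k := orderOf_dvd_of_pow_eq_one hpow
    rcases (Nat.dvd_prime hp).mp hdvd with h | h
    · exact absurd (orderOf_eq_one_iff.mp h) hne
    · exact h
  exact Cfsg.Agent.S0033.result (conjQ hS hk.1) hfpf (orderOf k) hp hord

end Cfsg.Agent.Lib.Helper5.RankOneB
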