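import Mathlib
import Cfsg.Agent.Lib.Helper5.RankOneB.Nilp

/-!
Rank-one set-up: the involutions of `G_a` are central in `Q` and form (with `1`) a subgroup.
-/

set_option autoImplicit false
set_option linter.unusedSectionVars false
set_option linter.style.haveILetI false
open scoped Pointwise

namespace Cfsg.Agent.Lib.Helper5.RankOneB

open MulAction Cfsg.Agent.H9.RankOne

section general
variable {H : Type*} [Group H]

/-- iterated commutators of a normal subgroup with the whole group -/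
def commSeq (N : Subgroup H) : ℕ → Subgroup H
  | 0 => N
  | (n + 1) => ⁅commSeq N n, (⊤ : Subgroup H)⁆

lemma commSeq_le_lcs (N : Subgroup H) (n : ℕ) :
    commSeq N n ≤ (⊤ : Subgroup H).lowerCentralSeries n := by
  induction n with
  | zero => simp [commSeq]
  | succ n ih =>
    rw [commSeq, Subgroup.lowerCentralSeries_succ]
    exact Subgroup.commutator_mono ih le_rfl

lemma commSeq_le (N : Subgroup H) [N.Normal] (n : ℕ) : commSeq N n ≤ N := by
  induction n with
  | zero => exact le_rfl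
  | succ n ih =>
    rw [commSeq]
    calc ⁅commSeq N n, (⊤ : Subgroup H)⁆ ≤ ⁅N, (⊤ : Subgroup H)⁆ := Subgroup.commutator_mono ih le_rfl
      _ ≤ N := Subgroup.commutator_le_left N ⊤

/-- A nontrivial normal subgroup of a nilpotent group contains a nontrivial central element. -/
theorem exists_mem_center_of_normal_nilpotent [Group.IsNilpotent H] (N : Subgroup H) [N.Normal]
    (hN : N ≠ ⊥) : ∃ z ∈ N, z ∈ Subgroup.center H ∧ z ≠ 1 := by
  classical
  obtain ⟨n, hn⟩ := (Subgroup.nilpotent_iff_lowerCentralSeries (G := H)).mp inferInstance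
  have hex : ∃ n, commSeq N n = ⊥ := ⟨n, le_bot_iff.mp (hn ▸ commSeq_le_lcs N n)⟩
  have hmin : ∀ {m : ℕ}, m < Nat.find hex → ¬ commSeq N m = ⊥ := fun h => Nat.find_min hex h
  have hspec := Nat.find_spec hex
  set m := Nat.find hex with hm
  have hm0 : m ≠ 0 := by
    intro h0
    rw [h0] at hspec
    exact hN hspec
  obtain ⟨j, hj⟩ := Nat.exists_eq_succ_of_ne_zero hm0
  have hjne : commSeq N j ≠ ⊥ := hmin (by omega)
  have hjc : ⁅commSeq N j, (⊤ : Subgroup H)⁆ = ⊥ := by
    rw [hj] at hspec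
    exact hspec
  rw [Subgroup.commutator_eq_bot_iff_le_centralizer] at hjc
  obtain ⟨z, hz1⟩ := (Subgroup.ne_bot_iff_exists_ne_one).mp hjne
  refine ⟨z, commSeq_le N j z.2, ?_, fun h => hz1 (Subtype.ext h)⟩
  have := hjc z.2
  rw [Subgroup.mem_centralizer_iff] at this
  rw [Subgroup.mem_center_iff]
  intro g
  exact this g (Subgroup.mem_top g)

/-- a finite nilpotent group of even order has a central involution -/
theorem exists_central_invol_of_nilpotent [Finite H] [Group.IsNilpotent H]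
    (hev : Even (Nat.card H)) : ∃ z ∈ Subgroup.center H, z ≠ 1 ∧ z * z = 1 := by
  haveI : Fact (Nat.Prime 2) := ⟨Nat.prime_two⟩
  obtain ⟨S⟩ : Nonempty (Sylow 2 H) := inferInstance
  have hS : (S : Subgroup H) ≠ ⊥ := Sylow.ne_bot_of_dvd_card S hev.two_dvd
  obtain ⟨z, hzS, hzc, hz1⟩ := exists_mem_center_of_normal_nilpotent (S : Subgroup H) hS
  obtain ⟨k, hk⟩ := (IsPGroup.iff_orderOf.mp S.isPGroup') ⟨z, hzS⟩
  have hk' : orderOf z = 2 ^ k := by
    rw [← hk]
    exact (Subgroup.orderOf_mk z hzS).symm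
  have hk0 : k ≠ 0 := by
    rintro rfl
    rw [pow_zero, orderOf_eq_one_iff] at hk'
    exact hz1 hk'
  obtain ⟨j, rfl⟩ := Nat.exists_eq_succ_of_ne_zero hk0
  refine ⟨z ^ 2 ^ j, Subgroup.pow_mem _ hzc _, ?_, ?_⟩
  · intro h
    have := orderOf_dvd_of_pow_eq_one h
    rw [hk'] at this
    have h2 := Nat.le_of_dvd (pow_pos (by norm_num) _) this
    exact absurd h2 (not_le.mpr (Nat.pow_lt_pow_right (by norm_num) (Nat.lt_succ_self j)))
  · rw [← pow_add, ← two_mul, ← pow_succ', ← hk', pow_orderOf_eq_one]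

end general

variable {G Ω : Type*} [Group G] [Finite G] [MulAction G Ω] {a : Ω} {t : G} {Q : Subgroup G}

/-- the involutions of `G_a` lie in the centre of `Q` -/
theorem invol_central (hS : Cfsg.IsRankOneSetup G Ω a t Q)
    (h2 : ∃ x y : G, x ≠ 1 ∧ y ≠ 1 ∧ x ≠ y ∧ x * x = 1 ∧ y * y = 1 ∧ x * y = y * x)
    {s : G} (hs : s ∈ Cfsg.involutionsIn (stabilizer G a : Set G)) :
    s ∈ Q ∧ ∀ x ∈ Q, s * x = x * s := by
  haveI := Q_nilpotent hS h2
  obtain ⟨z, hzc, hz1, hzz⟩ := exists_central_invol_of_nilpotent (H := Q) hS.even_card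
  have hz : (z : G) ∈ Cfsg.involutionsIn (stabilizer G a : Set G) := by
    refine ⟨hS.le z.2, fun h => hz1 (Subtype.ext h), ?_⟩
    exact congrArg Subtype.val hzz
  obtain ⟨k, hk, hks⟩ := exists_K_conj hS hz hs
  refine ⟨invol_mem_Q hS hs.1 hs.2.2, ?_⟩
  intro x hx
  have hkx : k * x * k⁻¹ ∈ Q := hS.conj_mem k hk.1.1 x hx
  have hc : (z : G) * (k * x * k⁻¹) = (k * x * k⁻¹) * z := by
    have := Subgroup.mem_center_iff.mp hzc ⟨k * x * k⁻¹, hkx⟩
    exact (congrArg Subtype.val this).symm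
  rw [← hks]
  calc k⁻¹ * (z : G) * k * x = k⁻¹ * ((z : G) * (k * x * k⁻¹)) * k := by group
    _ = k⁻¹ * ((k * x * k⁻¹) * z) * k := by rw [hc]
    _ = x * (k⁻¹ * (z : G) * k) := by group

/-- products of involutions of `G_a` -/
theorem invol_mul (hS : Cfsg.IsRankOneSetup G Ω a t Q)
    (h2 : ∃ x y : G, x ≠ 1 ∧ y ≠ 1 ∧ x ≠ y ∧ x * x = 1 ∧ y * y = 1 ∧ x * y = y * x)
    {s s' : G} (hs : s ∈ Cfsg.involutionsIn (stabilizer G a : Set G))
    (hs' : s' ∈ Cfsg.involutionsIn (stabilizer G a : Set G)) :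
    s * s' = 1 ∨ s * s' ∈ Cfsg.involutionsIn (stabilizer G a : Set G) := by
  by_cases h : s * s' = 1
  · exact Or.inl h
  · right
    refine ⟨(stabilizer G a).mul_mem hs.1 hs'.1, h, ?_⟩
    have hc := (invol_central hS h2 hs).2 s' (invol_mem_Q hS hs'.1 hs'.2.2)
    calc s * s' * (s * s') = s * (s' * s) * s' := by group
      _ = s * (s * s') * s' := by rw [hc]
      _ = (s * s) * (s' * s') := by group
      _ = 1 := by rw [hs.2.2, hs'.2.2, one_mul]

end Cfsg.Agent.Lib.Helper5.RankOneB
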