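import Mathlib
import Cfsg.Agent.Lib.Helper5.RankOneB.Central

/-!
Rank-one set-up: transport along conjugation, and strongly real elements.
-/

set_option autoImplicit false
set_option linter.unusedSectionVars false
set_option linter.style.haveILetI false
open scoped Pointwise

namespace Cfsg.Agent.Lib.Helper5.RankOneB

open MulAction Cfsg.Agent.H9.RankOne

variable {G Ω : Type*} [Group G] [Finite G] [MulAction G Ω] {a : Ω} {t : G} {Q : Subgroup G}

lemma mem_map_conj {H : Subgroup G} {g x : G} :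
    x ∈ H.map (MulAut.conj g).toMonoidHom ↔ g⁻¹ * x * g ∈ H := by
  constructor
  · rintro ⟨y, hy, rfl⟩
    have : g⁻¹ * ((MulAut.conj g).toMonoidHom y) * g = y := by
      show g⁻¹ * (g * y * g⁻¹) * g = y
      group
    rw [this]; exact hy
  · intro h
    refine ⟨g⁻¹ * x * g, h, ?_⟩
    show g * (g⁻¹ * x * g) * g⁻¹ = x
    group

/-- the rank-one set-up is invariant under conjugation -/
theorem setup_conj (hS : Cfsg.IsRankOneSetup G Ω a t Q) (g : G) :
    Cfsg.IsRankOneSetup G Ω (g • a) (g * t * g⁻¹) (Q.map (MulAut.conj g).toMonoidHom) := by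
  have hta : (g * t * g⁻¹) • g • a = g • t • a := by
    rw [mul_smul, mul_smul, inv_smul_smul]
  have hstab : ∀ (c : Ω) (x : G), x ∈ stabilizer G (g • c) ↔ g⁻¹ * x * g ∈ stabilizer G c := by
    intro c x
    rw [mem_stabilizer_iff, mem_stabilizer_iff, mul_smul, mul_smul, inv_smul_eq_iff]
  refine ⟨hS.two_transitive, ?_, ?_, ?_, ?_, ?_, ?_, ?_, ?_, ?_⟩
  · calc g * t * g⁻¹ * (g * t * g⁻¹) = g * (t * t) * g⁻¹ := by group
      _ = 1 := by rw [hS.mul_self]; group
  · intro h
    apply hS.ne_one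
    have : t = g⁻¹ * (g * t * g⁻¹) * g := by group
    rw [this, h]; group
  · intro h
    rw [mem_stabilizer_iff, hta] at h
    exact tsmul_ne hS (smul_left_cancel g h)
  · intro x hx
    rw [mem_map_conj] at hx
    rw [hstab]
    exact hS.le hx
  · intro h hh x hx
    rw [mem_map_conj] at hx ⊢
    rw [hstab] at hh
    have := hS.conj_mem _ hh _ hx
    have e : g⁻¹ * (h * x * h⁻¹) * g = g⁻¹ * h * g * (g⁻¹ * x * g) * (g⁻¹ * h * g)⁻¹ := by group
    rw [e]; exact this
  · rw [eq_bot_iff]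
    intro x hx
    obtain ⟨hxQ, hxs⟩ := Subgroup.mem_inf.mp hx
    rw [mem_map_conj] at hxQ
    rw [hta, hstab] at hxs
    have : g⁻¹ * x * g ∈ Q ⊓ stabilizer G (t • a) := Subgroup.mem_inf.mpr ⟨hxQ, hxs⟩
    rw [hS.inf_eq_bot, Subgroup.mem_bot] at this
    rw [Subgroup.mem_bot]
    calc x = g * (g⁻¹ * x * g) * g⁻¹ := by group
      _ = 1 := by rw [this]; group
  · rw [hta]
    apply le_antisymm
    · rw [sup_le_iff]
      refine ⟨?_, inf_le_left⟩
      intro x hx
      rw [mem_map_conj] at hx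
      rw [hstab]
      exact hS.le hx
    · intro x hx
      rw [hstab] at hx
      obtain ⟨q, hq, d, hd, hqd⟩ := exists_mul_of_mem_stab hS hx
      have e : x = (g * q * g⁻¹) * (g * d * g⁻¹) := by
        calc x = g * (g⁻¹ * x * g) * g⁻¹ := by group
          _ = g * (q * d) * g⁻¹ := by rw [hqd]
          _ = _ := by group
      rw [e]
      apply Subgroup.mul_mem
      · apply Subgroup.mem_sup_left
        rw [mem_map_conj]
        have : g⁻¹ * (g * q * g⁻¹) * g = q := by group
        rw [this]; exact hq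
      · apply Subgroup.mem_sup_right
        have hd' := Subgroup.mem_inf.mp hd
        have e' : g⁻¹ * (g * d * g⁻¹) * g = d := by group
        refine Subgroup.mem_inf.mpr ⟨(hstab _ _).mpr ?_, (hstab _ _).mpr ?_⟩
        · rw [e']; exact hd'.1
        · rw [e']; exact hd'.2
  · rw [Subgroup.card_map_of_injective (MulAut.conj g).injective]
    exact hS.even_card
  · rw [hta]
    have e : stabilizer G (g • a) ⊓ stabilizer G (g • t • a) =
        (DD G a t).map (MulAut.conj g).toMonoidHom := by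
      ext x
      rw [mem_map_conj, Subgroup.mem_inf, hstab, hstab]
      rfl
    rw [e, Subgroup.card_map_of_injective (MulAut.conj g).injective]
    exact hS.odd_card

/-- replace `t` by another involution with the same effect on `a` -/
theorem setup_swap (hS : Cfsg.IsRankOneSetup G Ω a t Q) {u : G} (huu : u * u = 1)
    (hua : u • a = t • a) : Cfsg.IsRankOneSetup G Ω a u Q := by
  have hne : u • a ≠ a := by rw [hua]; exact tsmul_ne hS
  refine ⟨hS.two_transitive, huu, ?_, ?_, hS.le, hS.conj_mem, ?_, ?_, hS.even_card, ?_⟩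
  · rintro rfl; exact hne (one_smul _ _)
  · intro h; exact hne h
  · rw [hua]; exact hS.inf_eq_bot
  · rw [hua]; exact hS.sup_eq
  · rw [hua]; exact hS.odd_card

lemma two_trans (hS : Cfsg.IsRankOneSetup G Ω a t Q) {a' b' c' d' : Ω} (h1 : a' ≠ b')
    (h2 : c' ≠ d') : ∃ g : G, g • a' = c' ∧ g • b' = d' :=
  (MulAction.is_two_pretransitive_iff (G := G) (α := Ω)).1 hS.two_transitive h1 h2

/-- the set-up at an arbitrary ordered pair of distinct points -/
theorem exists_setup (hS : Cfsg.IsRankOneSetup G Ω a t Q) {c b : Ω} (hcb : c ≠ b) :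
    ∃ (t' : G) (Q' : Subgroup G), Cfsg.IsRankOneSetup G Ω c t' Q' ∧ t' • c = b := by
  obtain ⟨h, rfl, rfl⟩ := two_trans hS (tsmul_ne hS).symm hcb
  refine ⟨_, _, setup_conj hS h, ?_⟩
  rw [mul_smul, mul_smul, inv_smul_smul]

/-- the set-up at an arbitrary point -/
theorem exists_setup_point (hS : Cfsg.IsRankOneSetup G Ω a t Q) (c : Ω) :
    ∃ (t' : G) (Q' : Subgroup G), Cfsg.IsRankOneSetup G Ω c t' Q' := by
  by_cases h : c = a
  · subst h; exact ⟨t, Q, hS⟩
  · obtain ⟨t', Q', hS', -⟩ := exists_setup hS h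
    exact ⟨t', Q', hS'⟩

/-- an involution fixes no two distinct points -/
theorem two_point_invol (hS : Cfsg.IsRankOneSetup G Ω a t Q) {c b : Ω} (hcb : c ≠ b) {d : G}
    (hc : d • c = c) (hb : d • b = b) (hdd : d * d = 1) : d = 1 := by
  by_contra hd1
  obtain ⟨c0, _, huniq⟩ := invol_unique_fixed hS hd1 hdd
  exact hcb ((huniq c hc).trans (huniq b hb).symm)

/-- two involutions with a common fixed point commute -/
theorem commute_of_common_fixed (hS : Cfsg.IsRankOneSetup G Ω a t Q)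
    (h2 : ∃ x y : G, x ≠ 1 ∧ y ≠ 1 ∧ x ≠ y ∧ x * x = 1 ∧ y * y = 1 ∧ x * y = y * x)
    {u v : G} {c : Ω} (hu1 : u ≠ 1) (huu : u * u = 1) (_hv1 : v ≠ 1) (hvv : v * v = 1)
    (huc : u • c = c) (hvc : v • c = c) : u * v = v * u := by
  obtain ⟨t', Q', hS'⟩ := exists_setup_point hS c
  have hu : u ∈ Cfsg.involutionsIn (stabilizer G c : Set G) := ⟨huc, hu1, huu⟩
  exact (invol_central hS' h2 hu).2 v (invol_mem_Q hS' hvc hvv)

/-- if the product of two involutions is not of order at most two, they have no common fixed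
point -/
theorem no_common_fixed (hS : Cfsg.IsRankOneSetup G Ω a t Q)
    (h2 : ∃ x y : G, x ≠ 1 ∧ y ≠ 1 ∧ x ≠ y ∧ x * x = 1 ∧ y * y = 1 ∧ x * y = y * x)
    {u v : G} {c : Ω} (hu1 : u ≠ 1) (huu : u * u = 1) (hv1 : v ≠ 1) (hvv : v * v = 1)
    (hx : (u * v) * (u * v) ≠ 1) (huc : u • c = c) (hvc : v • c = c) : False := by
  apply hx
  have := commute_of_common_fixed hS h2 hu1 huu hv1 hvv huc hvc
  calc u * v * (u * v) = u * (v * u) * v := by group
    _ = u * (u * v) * v := by rw [this]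
    _ = (u * u) * (v * v) := by group
    _ = 1 := by rw [huu, hvv, one_mul]

/-- a strongly real element of order greater than two is conjugate to some `u' t` -/
theorem strongly_real_conj (hS : Cfsg.IsRankOneSetup G Ω a t Q)
    (h2 : ∃ x y : G, x ≠ 1 ∧ y ≠ 1 ∧ x ≠ y ∧ x * x = 1 ∧ y * y = 1 ∧ x * y = y * x)
    {u v : G} (hu1 : u ≠ 1) (huu : u * u = 1) (hv1 : v ≠ 1) (hvv : v * v = 1)
    (hx : (u * v) * (u * v) ≠ 1) :
    ∃ g : G, ∃ u' ∈ Cfsg.involutionsIn (stabilizer G a : Set G),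
      g * (u * v) * g⁻¹ = u' * t := by
  obtain ⟨cu, hcu, _⟩ := invol_unique_fixed hS hu1 huu
  obtain ⟨cv, hcv, _⟩ := invol_unique_fixed hS hv1 hvv
  obtain ⟨c0, hc0, _⟩ := invol_unique_fixed hS hS.ne_one hS.mul_self
  have hcu : u • cu = cu := hcu
  have hcv : v • cv = cv := hcv
  have hc0 : t • c0 = c0 := hc0
  have hne : cu ≠ cv := by
    rintro rfl
    exact no_common_fixed hS h2 hu1 huu hv1 hvv hx hcu hcv
  have hc0a : a ≠ c0 := by rintro rfl; exact tsmul_ne hS hc0
  obtain ⟨g, hga, hgc⟩ := two_trans hS hne hc0a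
  have hv1' : g * v * g⁻¹ ∈ Cfsg.involutionsIn (stabilizer G c0 : Set G) := by
    refine ⟨?_, ?_, ?_⟩
    · show (g * v * g⁻¹) • c0 = c0
      rw [← hgc, mul_smul, mul_smul, inv_smul_smul, hcv]
    · intro h
      apply hv1
      calc v = g⁻¹ * (g * v * g⁻¹) * g := by group
        _ = 1 := by rw [h]; group
    · calc g * v * g⁻¹ * (g * v * g⁻¹) = g * (v * v) * g⁻¹ := by group
        _ = 1 := by rw [hvv]; group
  have ht' : t ∈ Cfsg.involutionsIn (stabilizer G c0 : Set G) := ⟨hc0, hS.ne_one, hS.mul_self⟩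
  obtain ⟨t', Q', hS', ht'c⟩ := exists_setup hS hc0a.symm
  obtain ⟨k, hk, hkv⟩ := exists_K_conj hS' hv1' ht'
  have hka : k • a = a := by
    have := hk.1.2
    rw [ht'c] at this
    exact this
  have hkia : k⁻¹ • a = a := by rw [inv_smul_eq_iff, hka]
  refine ⟨k⁻¹ * g, k⁻¹ * (g * u * g⁻¹) * k, ⟨?_, ?_, ?_⟩, ?_⟩
  · show (k⁻¹ * (g * u * g⁻¹) * k) • a = a
    rw [mul_smul, mul_smul, mul_smul, mul_smul, hka, ← hga, inv_smul_smul, hcu, hga, hkia]
  · intro h
    apply hu1
    calc u = g⁻¹ * (k * (k⁻¹ * (g * u * g⁻¹) * k) * k⁻¹) * g := by group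
      _ = 1 := by rw [h]; group
  · calc k⁻¹ * (g * u * g⁻¹) * k * (k⁻¹ * (g * u * g⁻¹) * k)
        = k⁻¹ * (g * (u * u) * g⁻¹) * k := by group
      _ = 1 := by rw [huu]; group
  · rw [← hkv]; group

/-- the centraliser of a strongly real element of order greater than two has odd order -/
theorem strongly_real_centralizer_odd (hS : Cfsg.IsRankOneSetup G Ω a t Q)
    (h2 : ∃ x y : G, x ≠ 1 ∧ y ≠ 1 ∧ x ≠ y ∧ x * x = 1 ∧ y * y = 1 ∧ x * y = y * x)
    {u v : G} (hu1 : u ≠ 1) (huu : u * u = 1) (hv1 : v ≠ 1) (hvv : v * v = 1)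
    (hx : (u * v) * (u * v) ≠ 1) :
    Odd (Nat.card ↥(Subgroup.centralizer {u * v})) := by
  rw [← Nat.not_even_iff_odd]
  intro hev
  haveI : Fact (Nat.Prime 2) := ⟨Nat.prime_two⟩
  obtain ⟨w, hw⟩ := exists_prime_orderOf_dvd_card' (G := Subgroup.centralizer {u * v}) 2
    hev.two_dvd
  have hw1 : (w : G) ≠ 1 := by
    intro h
    have : w = 1 := Subtype.ext h
    rw [this, orderOf_one] at hw
    norm_num at hw
  have hww : (w : G) * w = 1 := by
    have := pow_orderOf_eq_one w
    rw [hw, pow_two] at this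
    exact congrArg Subtype.val this
  have hwx : (w : G) * (u * v) = (u * v) * w := by
    have := (Subgroup.mem_centralizer_iff.1 w.2) (u * v) rfl
    exact this.symm
  obtain ⟨c, hc, huniq⟩ := invol_unique_fixed hS hw1 hww
  have hc : (w : G) • c = c := hc
  have hxc : (u * v) • c = c := by
    apply huniq
    show (w : G) • (u * v) • c = (u * v) • c
    rw [smul_smul, hwx, mul_smul, hc]
  have hui : u⁻¹ = u := inv_eq_iff_mul_eq_one.2 huu
  have hvi : v⁻¹ = v := inv_eq_iff_mul_eq_one.2 hvv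
  by_cases huc : u • c = c
  · have hvc : v • c = c := by
      have : v = u * (u * v) := by rw [← mul_assoc, huu, one_mul]
      rw [this, mul_smul, hxc, huc]
    exact no_common_fixed hS h2 hu1 huu hv1 hvv hx huc hvc
  · obtain ⟨t', Q', hS', ht'c⟩ := exists_setup hS (Ne.symm huc)
    have hS'' := setup_swap hS' huu ht'c.symm
    have hxK : u * v ∈ Cfsg.invertedBy (stabilizer G c ⊓ stabilizer G (u • c)) u := by
      refine ⟨⟨hxc, ?_⟩, ?_⟩
      · show (u * v) • u • c = u • c
        have : (u * v) * u = u * (u * v)⁻¹ := by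
          rw [mul_inv_rev, hui, hvi, mul_assoc]
        rw [smul_smul, this, mul_smul, inv_smul_eq_iff.2 hxc.symm]
      · rw [hui, mul_inv_rev, hui, hvi]
        calc u * (u * v) * u = (u * u) * v * u := by group
          _ = v * u := by rw [huu, one_mul]
    have hx1 : u * v ≠ 1 := by
      intro h
      apply hx
      rw [h, one_mul]
    have hwQ : (w : G) ∈ Q' := invol_mem_Q hS'' hc hww
    exact hw1 (Cfsg.Agent.S1128.fpf hS'' (u * v) hxK hx1 hwQ hwx.symm)

end Cfsg.Agent.Lib.Helper5.RankOneB
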